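import Groth.Prelude.Def_DualGr
import Mathlib

/-!
# Uniqueness of the thickness of a node
-/

set_option autoImplicit false
set_option backward.isDefEq.respectTransparency false

universe u

open IsLocalRing MvPowerSeries

noncomputable section

namespace Groth.Agent.ThickUniq

section

variable {C : Type u} [CommRing C]

/-- The first order coefficients. -/
def co (i : Fin 2) : MvPowerSeries (Fin 2) C →ₗ[C] C := coeff (Finsupp.single i 1)

theorem co_mul (i : Fin 2) (f g : MvPowerSeries (Fin 2) C) :
    co i (f * g) = constantCoeff f * co i g + constantCoeff g * co i f := by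
  classical
  rw [co, coeff_mul, Finsupp.antidiagonal_single, Finset.sum_map,
    show Finset.HasAntidiagonal.antidiagonal (1 : ℕ) = {((0 : ℕ), (1 : ℕ)), (1, 0)} from rfl, Finset.sum_pair (by simp)]
  simp [mul_comm]

theorem co_X (i j : Fin 2) : co i (X j : MvPowerSeries (Fin 2) C) = if i = j then 1 else 0 := by
  classical
  rw [co, coeff_X]
  simp [Finsupp.single_left_inj]

theorem co_C (i : Fin 2) (c : C) : co i (MvPowerSeries.C c) = 0 := by
  classical
  rw [co, coeff_C, if_neg (by simp)]

theorem eq_decomp (f : MvPowerSeries (Fin 2) C) :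
    ∃ f1 f2, f = MvPowerSeries.C (constantCoeff f) + X 0 * f1 + X 1 * f2 := by
  classical
  let f2 : MvPowerSeries (Fin 2) C := fun n => if n 0 = 0 then coeff (n + Finsupp.single 1 1) f else 0
  have hdvd : (X 0 : MvPowerSeries (Fin 2) C) ∣ f - MvPowerSeries.C (constantCoeff f) - X 1 * f2 := by
    refine X_dvd_iff.2 fun m hm => ?_
    rw [map_sub, map_sub, coeff_C]
    by_cases hm1 : m 1 = 0
    · obtain rfl : m = 0 := by ext j; fin_cases j <;> simp [hm, hm1]
      rw [show (coeff (0 : Fin 2 →₀ ℕ)) (X 1 * f2) = 0 by simp [coeff_zero_eq_constantCoeff], if_pos rfl]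
      simp
    · have hne : m ≠ 0 := fun h => hm1 (by simp [h])
      obtain ⟨m', rfl⟩ : ∃ m', m = Finsupp.single 1 1 + m' := ⟨m - Finsupp.single 1 1, by
        ext j; fin_cases j <;> simp [hm]; omega⟩
      have hm' : m' 0 = 0 := by simpa using hm
      rw [X_def, coeff_add_monomial_mul, one_mul, if_neg hne, sub_zero, show coeff m' f2 = f2 m' from rfl]
      simp only [f2, hm', if_true]
      rw [add_comm, sub_self]
  obtain ⟨f1, hf1⟩ := hdvd
  exact ⟨f1, f2, by rw [← hf1]; ring⟩

end

variable {R : Type u} [CommRing R] [IsLocalRing R] [IsNoetherianRing R]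

/-- The ideal of the node. -/
abbrev gen (b : R) : MvPowerSeries (Fin 2) (Curv2.cpl R) :=
  X 0 * X 1 - MvPowerSeries.C (algebraMap R (Curv2.cpl R) b)

theorem constantCoeff_gen_mul (b : R) (h : MvPowerSeries (Fin 2) (Curv2.cpl R)) :
    constantCoeff (gen b * h) = algebraMap R (Curv2.cpl R) b * (-constantCoeff h) := by
  simp [gen]

theorem co_gen_mul (b : R) (i : Fin 2) (h : MvPowerSeries (Fin 2) (Curv2.cpl R)) :
    co i (gen b * h) = algebraMap R (Curv2.cpl R) b * (-co i h) := by
  rw [co_mul, map_sub (co i), co_mul, co_C]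
  simp

theorem dvd_of_iso (a b : R) (ha : a ∈ maximalIdeal R) (hb : b ∈ maximalIdeal R)
    (e : DualGr.nodeRing R a ≃+* DualGr.nodeRing R b)
    (he : ∀ r : R, e (Ideal.Quotient.mk _ (MvPowerSeries.C (algebraMap R (Curv2.cpl R) r))) =
      Ideal.Quotient.mk _ (MvPowerSeries.C (algebraMap R (Curv2.cpl R) r))) :
    algebraMap R (Curv2.cpl R) b ∣ algebraMap R (Curv2.cpl R) a := by
  classical
  set C' := Curv2.cpl R
  let π : MvPowerSeries (Fin 2) C' →+* DualGr.nodeRing R b := e.toRingHom.comp (Ideal.Quotient.mk _)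
  let q : MvPowerSeries (Fin 2) C' →+* DualGr.nodeRing R b := Ideal.Quotient.mk _
  let res : C' →+* ResidueField C' := residue C'
  have hπs : Function.Surjective π := e.surjective.comp Ideal.Quotient.mk_surjective
  have hmem : ∀ g g', q g = q g' → ∃ h, g = g' + gen b * h := fun g g' h => by
    obtain ⟨t, ht⟩ := Ideal.mem_span_singleton'.1 (Ideal.Quotient.eq.1 h)
    exact ⟨t, by rw [mul_comm, ht]; ring⟩
  have hbm : algebraMap R C' b ∈ maximalIdeal C' := by
    rw [AdicCompletion.maximalIdeal_eq_map]; exact Ideal.mem_map_of_mem _ hb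
  have hres0 : ∀ g g', q g = q g' → res (constantCoeff g) = res (constantCoeff g') ∧
      ∀ i, res (co i g) = res (co i g') := fun g g' h => by
    obtain ⟨t, rfl⟩ := hmem g g' h
    refine ⟨?_, fun i => ?_⟩
    · rw [map_add, map_add, constantCoeff_gen_mul, map_mul, (residue_eq_zero_iff _).2 hbm, zero_mul, add_zero]
    · rw [map_add, map_add, co_gen_mul, map_mul, (residue_eq_zero_iff _).2 hbm, zero_mul, add_zero]
  choose lift hlift using fun z => (Ideal.Quotient.mk_surjective z : ∃ g, q g = z)
  let U := lift (π (X 0))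
  let V := lift (π (X 1))
  have hlocal : ∀ i, res (constantCoeff (lift (π (X i)))) = 0 := by
    intro i
    rw [residue_eq_zero_iff, mem_maximalIdeal, mem_nonunits_iff]
    intro hu
    have h1 : IsUnit (π (X i)) := hlift (π (X i)) ▸ ((MvPowerSeries.isUnit_iff_constantCoeff.2 hu).map q)
    obtain ⟨g, hg⟩ := hπs ↑h1.unit⁻¹
    have h2 : π (X i * g) = π 1 := by rw [map_mul, map_one, hg]; exact h1.mul_val_inv
    obtain ⟨t, ht⟩ := Ideal.mem_span_singleton'.1 (Ideal.Quotient.eq.1 (e.injective h2))
    have := congrArg (fun f => res (constantCoeff f)) ht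
    have h0 : res (constantCoeff (MvPowerSeries.C (algebraMap R (Curv2.cpl R) a) :
        MvPowerSeries (Fin 2) (Curv2.cpl R))) = 0 := by
      erw [constantCoeff_C]
      refine (residue_eq_zero_iff _).2 ?_
      rw [AdicCompletion.maximalIdeal_eq_map]; exact Ideal.mem_map_of_mem _ ha
    simp at this
    exact zero_ne_one ((mul_eq_zero_of_right _ h0).symm.trans this)
  -- the linear part of an image
  let c0 : DualGr.nodeRing R b → ResidueField C' := fun z => res (constantCoeff (lift z))
  let lin : Fin 2 → DualGr.nodeRing R b → ResidueField C' := fun i z => res (co i (lift z))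
  have hlin : ∀ i g, lin i (q g) = res (co i g) := fun i g => (hres0 _ _ (hlift (q g))).2 i
  have hlin_add : ∀ i z w, lin i (z + w) = lin i z + lin i w := fun i z w => by
    rw [show z + w = q (lift z + lift w) by rw [map_add, hlift, hlift], hlin, map_add, map_add]
  have hlin_mul : ∀ i z w, lin i (z * w) = c0 z * lin i w + c0 w * lin i z := fun i z w => by
    rw [show z * w = q (lift z * lift w) by rw [map_mul, hlift, hlift], hlin, co_mul, map_add, map_mul, map_mul]
  have hlinC : ∀ i (c : C'), lin i (π (MvPowerSeries.C c)) = 0 := by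
    intro i c
    haveI := AdicCompletion.algebraMap_isLocalHom_of_fg (maximalIdeal R).fg_of_isNoetherianRing
    have hr : ∀ r : R, lin i (π (MvPowerSeries.C (algebraMap R C' r))) = 0 := fun r => by
      rw [show π (MvPowerSeries.C (algebraMap R C' r)) = q (MvPowerSeries.C (algebraMap R C' r)) from he r, hlin, co_C,
        map_zero]
    obtain ⟨y, hy⟩ := (AdicCompletion.residueField_map_bijective_of_fg (maximalIdeal R).fg_of_isNoetherianRing).2
      (residue C' c)
    obtain ⟨r, rfl⟩ := residue_surjective y
    have hd : c - algebraMap R C' r ∈ maximalIdeal C' := by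
      rw [← residue_eq_zero_iff, map_sub, ← hy]; exact sub_self _
    rw [AdicCompletion.maximalIdeal_eq_map, Ideal.map, Ideal.span] at hd
    revert hd
    generalize hgen : c - algebraMap R C' r = w
    intro hd
    have key : lin i (π (MvPowerSeries.C w)) = 0 ∧ c0 (π (MvPowerSeries.C w)) = 0 := by
      clear hgen
      induction hd using Submodule.span_induction with
      | mem x hx =>
        obtain ⟨m, hm, rfl⟩ := hx
        refine ⟨hr m, ?_⟩
        show res _ = 0
        refine ((hres0 (lift (π (MvPowerSeries.C (algebraMap R C' m)))) (MvPowerSeries.C (algebraMap R C' m))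
          ((hlift _).trans (he m))).1).trans ?_
        rw [constantCoeff_C, residue_eq_zero_iff, AdicCompletion.maximalIdeal_eq_map]
        exact Ideal.mem_map_of_mem _ hm
      | zero =>
        rw [map_zero, map_zero]
        have h0 := hres0 (lift 0) 0 ((hlift 0).trans (map_zero q).symm)
        exact ⟨by simpa using h0.2 i, by simpa using h0.1⟩
      | add x y _ _ hx hy =>
        rw [map_add, map_add, hlin_add, hx.1, hy.1]
        refine ⟨add_zero 0, ?_⟩
        show res _ = 0
        rw [(hres0 _ (lift (π (MvPowerSeries.C x)) + lift (π (MvPowerSeries.C y))) (by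
          rw [hlift, map_add, hlift, hlift])).1, map_add, map_add]
        simpa [c0] using (congrArg₂ (· + ·) hx.2 hy.2)
      | smul d x _ hx =>
        rw [smul_eq_mul, map_mul, map_mul, hlin_mul, hx.1, hx.2]
        refine ⟨by simp, ?_⟩
        show res _ = 0
        rw [(hres0 _ (lift (π (MvPowerSeries.C d)) * lift (π (MvPowerSeries.C x))) (by
          rw [hlift, map_mul, hlift, hlift])).1, map_mul, map_mul]
        exact mul_eq_zero_of_right _ hx.2
    have hc : c = algebraMap R C' r + w := by rw [← hgen]; ring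
    rw [hc, map_add, map_add, hlin_add, hr, key.1, add_zero]
  have hspan : ∀ z : DualGr.nodeRing R b, ∃ s t : ResidueField C', ∀ i,
      lin i z = s * lin i (π (X 0)) + t * lin i (π (X 1)) := by
    intro z
    obtain ⟨f, rfl⟩ := hπs z
    obtain ⟨f1, f2, hf⟩ := eq_decomp f
    refine ⟨c0 (π f1), c0 (π f2), fun i => ?_⟩
    conv_lhs => rw [hf]
    rw [map_add, map_add, map_mul, map_mul, hlin_add, hlin_add, hlinC, hlin_mul, hlin_mul,
      show c0 (π (X 0)) = 0 from hlocal 0, show c0 (π (X 1)) = 0 from hlocal 1]
    ring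
  obtain ⟨p, p', hp⟩ := hspan (q (X 0))
  obtain ⟨r', r'', hr'⟩ := hspan (q (X 1))
  have h00 := hp 0; have h01 := hp 1; have h10 := hr' 0; have h11 := hr' 1
  simp only [hlin, co_X, if_true, Fin.zero_eq_one_iff, OfNat.ofNat_ne_one, one_ne_zero, ↓reduceIte, map_one, map_zero]
    at h00 h01 h10 h11
  let det : C' := co 0 U * co 1 V - co 1 U * co 0 V
  have hdet : IsUnit det := by
    by_contra h
    have h0 : res det = 0 := (residue_eq_zero_iff _).2 ((mem_maximalIdeal _).2 h)
    simp only [det, map_sub, map_mul] at h0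
    have hU : ∀ i, lin i (π (X 0)) = res (co i U) := fun i => rfl
    have hV : ∀ i, lin i (π (X 1)) = res (co i V) := fun i => rfl
    rw [hU, hV] at h00 h01 h10 h11
    exact one_ne_zero (α := ResidueField C') (by
      linear_combination (p * r'' - p' * r') * h0 + (r' * res (co 1 U) + r'' * res (co 1 V)) * h00
        - (r' * res (co 0 U) + r'' * res (co 0 V)) * h01 + h11)
  -- the product relation
  have hprod : q (U * V) = q (MvPowerSeries.C (algebraMap R C' a)) := by
    rw [map_mul, hlift, hlift, ← map_mul, ← he a]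
    exact congrArg e (Ideal.Quotient.eq.2 (Ideal.mem_span_singleton_self _))
  obtain ⟨t, ht⟩ := hmem _ _ hprod
  have hc := congrArg constantCoeff ht
  have hd : ∀ i, constantCoeff U * co i V + constantCoeff V * co i U = algebraMap R C' b * (-co i t) := fun i => by
    have := congrArg (co i) ht
    rw [co_mul, map_add, co_C, co_gen_mul, zero_add] at this
    exact this
  rw [map_mul, map_add, constantCoeff_C, constantCoeff_gen_mul] at hc
  obtain ⟨d', hd'⟩ := hdet.exists_left_inv
  refine ⟨d' * constantCoeff V * (co 0 U * (-co 1 t) - co 1 U * (-co 0 t)) + constantCoeff t, ?_⟩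
  linear_combination -hc - (constantCoeff U * constantCoeff V) * hd' + (d' * constantCoeff V * co 0 U) * hd 1
    - (d' * constantCoeff V * co 1 U) * hd 0

theorem span_singleton_eq {A : Type u} [CommRing A] [IsLocalRing A] (φ : R →+* A) (a b : R)
    (ha : a ∈ maximalIdeal R) (hb : b ∈ maximalIdeal R)
    (h₁ : DualGr.IsThickNode φ a) (h₂ : DualGr.IsThickNode φ b) : Ideal.span {a} = Ideal.span {b} := by
  obtain ⟨e₁, he₁⟩ := h₁
  obtain ⟨e₂, he₂⟩ := h₂
  haveI : Module.FaithfullyFlat R (Curv2.cpl R) := Module.FaithfullyFlat.of_flat_of_isLocalHom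
  have key : ∀ {a b : R} (_ : algebraMap R (Curv2.cpl R) b ∣ algebraMap R (Curv2.cpl R) a), a ∈ Ideal.span {b} := by
    intro a b h
    rw [← Ideal.comap_map_eq_self_of_faithfullyFlat (B := Curv2.cpl R) (Ideal.span {b}), Ideal.mem_comap,
      Ideal.map_span, Set.image_singleton, Ideal.mem_span_singleton]
    exact h
  refine le_antisymm ((Ideal.span_singleton_le_iff_mem _).2 (key ?_)) ((Ideal.span_singleton_le_iff_mem _).2 (key ?_))
  · exact dvd_of_iso a b ha hb (e₁.symm.trans e₂) fun r => by
      rw [RingEquiv.trans_apply, ← he₁, RingEquiv.symm_apply_apply, he₂]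
  · exact dvd_of_iso b a hb ha (e₂.symm.trans e₁) fun r => by
      rw [RingEquiv.trans_apply, ← he₂, RingEquiv.symm_apply_apply, he₁]

end Groth.Agent.ThickUniq
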